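import Cfsg.Agent.Helper61.Sr.Basic

/-!
# S3572 (helper61's farm), piece (O4): a transitive action containing the left translations whose
point stabiliser is transitive on the non-identity elements is `2`-transitive
-/

set_option autoImplicit false
set_option linter.unusedVariables false

namespace Cfsg.Agent.Helper73.Sr

open Finset DihedralGroup Cfsg.Agent.Helper61.Sr Cfsg.Agent.Helper61.Dih

open MulAction

/-- (O4) -/
theorem two_trans_of_triv {H : Type*} [Group H] [Fintype H] [DecidableEq H] {G : Type*} [Group G]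
    [MulAction G H] (ι : H →* G) (hι : ∀ h x : H, ι h • x = h * x)
    (htriv : ∀ x y : H, x ≠ 1 → y ≠ 1 → ∃ g ∈ stabilizer G (1 : H), g • x = y) :
    IsMultiplyPretransitive G H 2 := by
  rw [is_two_pretransitive_iff]
  intro a b c d hab hcd
  have hx : a⁻¹ * b ≠ 1 := by
    intro h
    apply hab
    have := inv_mul_eq_one.mp h
    exact this
  have hy : c⁻¹ * d ≠ 1 := by
    intro h
    apply hcd
    exact inv_mul_eq_one.mp h
  obtain ⟨g, hg, hgxy⟩ := htriv _ _ hx hy
  have hg1 : g • (1 : H) = 1 := mem_stabilizer_iff.mp hg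
  refine ⟨ι c * g * ι a⁻¹, ?_, ?_⟩
  · rw [mul_smul, mul_smul, hι a⁻¹ a, inv_mul_cancel, hg1, hι, mul_one]
  · rw [mul_smul, mul_smul, hι a⁻¹ b, hgxy, hι, mul_inv_cancel_left]

end Cfsg.Agent.Helper73.Sr
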