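import Cfsg.Agent.Helper61.Sr.Basic

/-!
# S3572 (helper61's farm), piece (DS7): a `p`-periodic subset of `ZMod n` has cardinality divisible
by `p`
-/

set_option autoImplicit false
set_option linter.unusedVariables false

namespace Cfsg.Agent.Helper73.Sr

open Finset DihedralGroup Cfsg.Agent.Helper61.Sr Cfsg.Agent.Helper61.Dih

/-- (DS7) -/
theorem card_dvd_of_per {n : ℕ} [NeZero n] (p : ℕ) [Fact p.Prime] (hpn : p ∣ n)
    (A : Finset (ZMod n)) (hA : Per p A) : p ∣ A.card := by
  classical
  have hfib : ∀ y ∈ A.image (fun x : ZMod n => p • x),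
      (A.filter (fun x => p • x = y)).card = p := by
    intro y hy
    obtain ⟨x₀, hx₀, rfl⟩ := Finset.mem_image.mp hy
    have hset : A.filter (fun x => p • x = p • x₀) =
        (univ.filter (fun u : ZMod n => p • u = 0)).image (fun u => x₀ + u) := by
      ext x
      simp only [Finset.mem_filter, Finset.mem_image, Finset.mem_univ, true_and]
      constructor
      · rintro ⟨hxA, hx⟩
        refine ⟨x - x₀, ?_, by ring⟩
        rw [smul_sub, hx, sub_self]
      · rintro ⟨u, hu, rfl⟩
        refine ⟨(hA x₀ u hu).mp hx₀, ?_⟩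
        rw [smul_add, hu, add_zero]
    rw [hset, Finset.card_image_of_injective _ (add_right_injective x₀)]
    convert card_torsion p hpn
  rw [Finset.card_eq_sum_card_image (fun x : ZMod n => p • x) A, Finset.sum_congr rfl hfib,
    Finset.sum_const, smul_eq_mul]
  exact dvd_mul_left p _

end Cfsg.Agent.Helper73.Sr
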