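import Cfsg.Agent.Helper61.Sr.Basic

/-!
# S3572 (helper61's farm), piece (N8): the two remaining configurations in the dihedral group of
order 16
-/

set_option autoImplicit false
set_option linter.unusedVariables false
set_option maxRecDepth 100000

namespace Cfsg.Agent.Helper73.Sr

open Finset DihedralGroup Cfsg.Agent.Helper61.Sr Cfsg.Agent.Helper61.Dih

theorem N8_aux1 : ∀ B ∈ (univ : Finset (ZMod 8)).powerset,
    ¬ (∀ x : ZMod 8, x ≠ 0 →
      ((({2, 6} : Finset (ZMod 8))).filter (fun i => x - i ∈ ({2, 6} : Finset (ZMod 8)))).card +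
        (B.filter (fun j => j + x ∈ B)).card = 2) := by
  decide +kernel

theorem N8_aux2 : ∀ B ∈ (univ : Finset (ZMod 8)).powerset,
    ¬ (∀ x : ZMod 8, x ≠ 0 →
      ((({0, 4} : Finset (ZMod 8))).filter (fun i => x - i ∈ ({0, 4} : Finset (ZMod 8)))).card +
        (B.filter (fun j => j + x ∈ B)).card = 2) := by
  decide +kernel

/-- (N8) the two remaining configurations in the dihedral group of order 16 -/
theorem N8 (B : Finset (ZMod 8)) (A : Finset (ZMod 8))
    (hA : A = {2, 6} ∨ A = {0, 4})
    (hrot : ∀ x : ZMod 8, x ≠ 0 →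
      (A.filter (fun i => x - i ∈ A)).card + (B.filter (fun j => j + x ∈ B)).card = 2) :
    False := by
  rcases hA with rfl | rfl
  · exact N8_aux1 B (Finset.mem_powerset.mpr (Finset.subset_univ B)) hrot
  · exact N8_aux2 B (Finset.mem_powerset.mpr (Finset.subset_univ B)) hrot

end Cfsg.Agent.Helper73.Sr
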