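import Cfsg.Agent.Helper61.Sr.Basic

/-!
# S3572 (helper61's farm), piece (NT4): a rational subset of `ZMod n` contains no unit or every unit
-/

set_option autoImplicit false
set_option linter.unusedVariables false

namespace Cfsg.Agent.Helper73.Sr

open Finset DihedralGroup Cfsg.Agent.Helper61.Sr Cfsg.Agent.Helper61.Dih

/-- (NT4) -/
theorem rational_odd {n : ℕ} [NeZero n] (a : ℕ) (hn : n = 2 ^ a) (A : Finset (ZMod n))
    (hA : Rational A) :
    (∀ x : ZMod n, IsUnit x → x ∉ A) ∨ (∀ x : ZMod n, IsUnit x → x ∈ A) := by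
  by_cases h : ∃ x : ZMod n, IsUnit x ∧ x ∈ A
  · right
    obtain ⟨x, hx, hxA⟩ := h
    intro y hy
    obtain ⟨ux, rfl⟩ := hx
    obtain ⟨uy, rfl⟩ := hy
    have key := hA (uy * ux⁻¹) _ hxA
    rwa [Units.val_mul, mul_assoc, Units.inv_mul, mul_one] at key
  · left
    intro x hx hxA
    exact h ⟨x, hx, hxA⟩

end Cfsg.Agent.Helper73.Sr
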